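import Cfsg.Agent.H1.PEq
import Cfsg.Prelude.Def_Transfer

set_option autoImplicit false
open Cfsg

namespace Cfsg.Agent.L0.E8

variable {X : Type*} [Group X] [Finite X]

/-- elementary abelian, elementwise -/
def EA (H : Subgroup X) : Prop := (∀ a ∈ H, ∀ b ∈ H, a * b = b * a) ∧ ∀ a ∈ H, a * a = 1

theorem ea_iff {H : Subgroup X} : IsElementaryAbelian 2 H ↔ EA H := by
  constructor
  · rintro ⟨h1, h2⟩
    refine ⟨fun a ha b hb => ?_, fun a ha => by rw [← pow_two]; exact h2 a ha⟩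
    have := h1.is_comm.comm (⟨a, ha⟩ : H) ⟨b, hb⟩
    exact congrArg Subtype.val this
  · rintro ⟨h1, h2⟩
    refine ⟨⟨⟨fun a b => Subtype.ext (h1 a a.2 b b.2)⟩⟩, fun a ha => by rw [pow_two]; exact h2 a ha⟩

theorem EA.mono {H K : Subgroup X} (h : EA H) (hK : K ≤ H) : EA K :=
  ⟨fun a ha b hb => h.1 a (hK ha) b (hK hb), fun a ha => h.2 a (hK ha)⟩

theorem sup_le_cent {V : Subgroup X} {e x : X} (h1 : ∀ v ∈ V, v * x = x * v) (h2 : e * x = x * e) :
    ∀ y ∈ V ⊔ Subgroup.zpowers e, y * x = x * y := by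
  intro y hy
  have hle : V ⊔ Subgroup.zpowers e ≤ Subgroup.centralizer {x} := by
    refine sup_le ?_ ?_
    · intro k hk
      rw [Subgroup.mem_centralizer_singleton_iff]
      exact h1 k hk
    · rw [Subgroup.zpowers_le, Subgroup.mem_centralizer_singleton_iff]
      exact h2
  exact Subgroup.mem_centralizer_singleton_iff.mp (hle hy)

theorem EA.ext {V : Subgroup X} (h : EA V) {e : X} (he : e * e = 1) (hc : ∀ v ∈ V, v * e = e * v) :
    EA (V ⊔ Subgroup.zpowers e) := by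
  have h1 : ∀ a ∈ V ⊔ Subgroup.zpowers e, ∀ b ∈ V ⊔ Subgroup.zpowers e, a * b = b * a := by
    intro a ha
    have h2 : ∀ y ∈ V ⊔ Subgroup.zpowers e, y * a = a * y := by
      apply sup_le_cent
      · intro v hv
        have := sup_le_cent (V := V) (e := e) (x := v) (fun w hw => h.1 w hw v hv) (hc v hv).symm a ha
        exact this.symm
      · exact (sup_le_cent hc rfl a ha).symm
    intro b hb
    exact (h2 b hb).symm
  refine ⟨h1, ?_⟩
  intro a ha
  have hle : V ⊔ Subgroup.zpowers e ≤ { carrier := {x | x ∈ V ⊔ Subgroup.zpowers e ∧ x * x = 1}, mul_mem' := (by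
      rintro x y ⟨hx1, hx2⟩ ⟨hy1, hy2⟩
      refine ⟨Subgroup.mul_mem _ hx1 hy1, ?_⟩
      calc x * y * (x * y) = x * (y * x) * y := by group
        _ = (x * x) * (y * y) := by rw [h1 y hy1 x hx1]; group
        _ = 1 := by rw [hx2, hy2, one_mul]), one_mem' := ⟨Subgroup.one_mem _, one_mul 1⟩, inv_mem' := (by
      rintro x ⟨hx1, hx2⟩
      refine ⟨Subgroup.inv_mem _ hx1, ?_⟩
      rw [← mul_inv_rev, hx2, inv_one]) : Subgroup X } := by
    refine sup_le ?_ ?_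
    · intro v hv
      exact ⟨Subgroup.mem_sup_left hv, h.2 v hv⟩
    · rw [Subgroup.zpowers_le]
      exact ⟨Subgroup.mem_sup_right (Subgroup.mem_zpowers e), he⟩
  exact (hle ha).2

theorem card_ext {V : Subgroup X} {e : X} (he : e * e = 1) (heV : e ∉ V) (hc : ∀ v ∈ V, v * e = e * v) :
    Nat.card (V ⊔ Subgroup.zpowers e : Subgroup X) = 2 * Nat.card V := by
  apply H1.card_sup_zpowers_prime Nat.prime_two _ heV (by rw [pow_two]; exact he)
  rw [Subgroup.mem_set_normalizer_iff]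
  intro v
  constructor
  · intro hv
    rw [← hc v hv, mul_inv_cancel_right]; exact hv
  · intro hv
    have := hc _ hv
    have h2 : v = e * v * e⁻¹ := by
      have h3 : e * v * e⁻¹ * e = e * (e * v * e⁻¹) := this
      have h4 : e * v = e * (e * v * e⁻¹) := by rw [← h3]; group
      exact mul_left_cancel h4
    rw [h2]; exact hv

theorem cent_sq {D : Subgroup X} (hD : EA D) {v : X} (hv : v * v = 1) (hn : ∀ d ∈ D, v * d * v⁻¹ ∈ D) :
    Nat.card D ≤ Nat.card (D ⊓ Subgroup.centralizer {v} : Subgroup X) ^ 2 := by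
  have hvi : v⁻¹ = v := inv_eq_of_mul_eq_one_left hv
  let φ : D →* D := MonoidHom.mk' (fun d => ⟨v * d * v⁻¹ * (d : X)⁻¹, D.mul_mem (hn d d.2) (D.inv_mem d.2)⟩) (by
    intro a b
    apply Subtype.ext
    change v * ((a : X) * b) * v⁻¹ * ((a : X) * b)⁻¹ = (v * a * v⁻¹ * (a : X)⁻¹) * (v * b * v⁻¹ * (b : X)⁻¹)
    have h1 := hD.1 (v * b * v⁻¹ * (b : X)⁻¹) (D.mul_mem (hn b b.2) (D.inv_mem b.2)) (a : X)⁻¹ (D.inv_mem a.2)
    calc v * ((a : X) * b) * v⁻¹ * ((a : X) * b)⁻¹ = (v * a * v⁻¹) * ((v * b * v⁻¹ * (b : X)⁻¹) * (a : X)⁻¹) := by group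
      _ = _ := by rw [h1]; group)
  have hφ : ∀ d : D, ((φ d : D) : X) = v * d * v⁻¹ * (d : X)⁻¹ := fun d => rfl
  have hker : ∀ d : D, d ∈ φ.ker ↔ (d : X) ∈ D ⊓ Subgroup.centralizer {v} := by
    intro d
    rw [MonoidHom.mem_ker, Subgroup.mem_inf, Subgroup.mem_centralizer_singleton_iff]
    constructor
    · intro h
      have h1 := congrArg Subtype.val h
      rw [hφ] at h1
      change v * (d : X) * v⁻¹ * (d : X)⁻¹ = 1 at h1
      refine ⟨d.2, ?_⟩
      calc (d : X) * v = (v * (d : X) * v⁻¹ * (d : X)⁻¹) * d * v := by rw [h1]; group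
        _ = v * d := by group
    · rintro ⟨-, h⟩
      apply Subtype.ext
      rw [hφ]
      change v * (d : X) * v⁻¹ * (d : X)⁻¹ = 1
      rw [← h]; group
  have hrange : φ.range ≤ φ.ker := by
    rintro _ ⟨d, rfl⟩
    rw [MonoidHom.mem_ker]
    apply Subtype.ext
    rw [hφ, hφ]
    change v * (v * d * v⁻¹ * (d : X)⁻¹) * v⁻¹ * (v * d * v⁻¹ * (d : X)⁻¹)⁻¹ = 1
    have h1 := hD.2 (v * d * v⁻¹ * (d : X)⁻¹) (D.mul_mem (hn d d.2) (D.inv_mem d.2))
    have h2 : v * (v * d * v⁻¹ * (d : X)⁻¹) * v⁻¹ = (v * d * v⁻¹ * (d : X)⁻¹)⁻¹ := by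
      calc v * (v * d * v⁻¹ * (d : X)⁻¹) * v⁻¹ = (v * v) * d * v⁻¹ * (d : X)⁻¹ * v⁻¹ := by group
        _ = d * v⁻¹ * (d : X)⁻¹ * v⁻¹ := by rw [hv]; group
        _ = d * v * (d : X)⁻¹ * v⁻¹ := by rw [hvi]
        _ = _ := by group
    rw [h2, ← mul_inv_rev, h1, inv_one]
  have h1 := Subgroup.card_mul_index φ.ker
  rw [Subgroup.index_ker] at h1
  have h2 : Nat.card φ.ker = Nat.card (D ⊓ Subgroup.centralizer {v} : Subgroup X) := by
    apply Nat.card_congr
    exact ⟨fun d => ⟨d.1.1, (hker d.1).mp d.2⟩, fun d => ⟨⟨d.1, (Subgroup.mem_inf.mp d.2).1⟩, (hker _).mpr d.2⟩,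
      fun d => rfl, fun d => rfl⟩
  have h3 : Nat.card φ.range ≤ Nat.card φ.ker := Nat.card_le_card_of_injective _ (Subgroup.inclusion_injective hrange)
  rw [← h1, pow_two, ← h2]
  exact Nat.mul_le_mul_left _ h3

theorem two_pow (hX : IsPGroup 2 X) {H : Subgroup X} : ∃ k, Nat.card H = 2 ^ k :=
  haveI : Fact (Nat.Prime 2) := ⟨Nat.prime_two⟩
  IsPGroup.iff_card.mp (hX.to_subgroup H)

/-- the rounding -/
theorem up4 {n k : ℕ} (h : n = 2 ^ k) (h1 : 3 ≤ n) : 4 ≤ n := by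
  subst h
  rcases Nat.lt_or_ge k 2 with h2 | h2
  · have : k = 0 ∨ k = 1 := by omega
    rcases this with rfl | rfl <;> norm_num at h1
  · exact (show 4 = 2 ^ 2 by norm_num) ▸ Nat.pow_le_pow_right (n := 2) (by norm_num) h2

theorem up8 {n k : ℕ} (h : n = 2 ^ k) (h1 : 5 ≤ n) : 8 ≤ n := by
  subst h
  rcases Nat.lt_or_ge k 3 with h2 | h2
  · have : k = 0 ∨ k = 1 ∨ k = 2 := by omega
    rcases this with rfl | rfl | rfl <;> norm_num at h1
  · exact (show 8 = 2 ^ 3 by norm_num) ▸ Nat.pow_le_pow_right (n := 2) (by norm_num) h2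

theorem c1 (hX : IsPGroup 2 X) {E : Subgroup X} [E.Normal] (hE : EA E) (hE32 : 32 ≤ Nat.card E) {v : X} (hv : v * v = 1) :
    8 ≤ Nat.card (E ⊓ Subgroup.centralizer {v} : Subgroup X) := by
  obtain ⟨k, hk⟩ := two_pow hX (H := E ⊓ Subgroup.centralizer {v})
  apply up8 hk
  have h1 := cent_sq hE hv (fun d hd => ‹E.Normal›.conj_mem d hd v)
  by_contra h2
  have h3 : Nat.card (E ⊓ Subgroup.centralizer {v} : Subgroup X) ≤ 4 := by omega
  have h4 := Nat.pow_le_pow_left h3 2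
  omega

theorem norm_step {E : Subgroup X} [E.Normal] {v w : X} (hvw : v * w = w * v) :
    ∀ d ∈ E ⊓ Subgroup.centralizer {v}, w * d * w⁻¹ ∈ E ⊓ Subgroup.centralizer {v} := by
  intro d hd
  obtain ⟨h1, h2⟩ := Subgroup.mem_inf.mp hd
  refine Subgroup.mem_inf.mpr ⟨‹E.Normal›.conj_mem d h1 w, ?_⟩
  have hw : w ∈ Subgroup.centralizer ({v} : Set X) := by
    rw [Subgroup.mem_centralizer_singleton_iff]; exact hvw.symm
  exact Subgroup.mul_mem _ (Subgroup.mul_mem _ hw h2) (Subgroup.inv_mem _ hw)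

theorem c2 (hX : IsPGroup 2 X) {E : Subgroup X} [E.Normal] (hE : EA E) (hE32 : 32 ≤ Nat.card E) {v w : X} (hv : v * v = 1)
    (hw : w * w = 1) (hvw : v * w = w * v) :
    4 ≤ Nat.card (E ⊓ Subgroup.centralizer {v} ⊓ Subgroup.centralizer {w} : Subgroup X) := by
  obtain ⟨k, hk⟩ := two_pow hX (H := E ⊓ Subgroup.centralizer {v} ⊓ Subgroup.centralizer {w})
  apply up4 hk
  have h0 := c1 hX hE hE32 hv
  have h1 := cent_sq (hE.mono (inf_le_left : E ⊓ Subgroup.centralizer {v} ≤ E)) hw (norm_step hvw)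
  by_contra h2
  have h3 : Nat.card (E ⊓ Subgroup.centralizer {v} ⊓ Subgroup.centralizer {w} : Subgroup X) ≤ 2 := by omega
  have h4 := Nat.pow_le_pow_left h3 2
  omega

theorem c3 (hX : IsPGroup 2 X) {E : Subgroup X} [E.Normal] (hE : EA E) (hE32 : 32 ≤ Nat.card E) {v w u : X} (hv : v * v = 1)
    (hw : w * w = 1) (hu : u * u = 1) (hvw : v * w = w * v) (hvu : v * u = u * v) (hwu : w * u = u * w) :
    2 ≤ Nat.card (E ⊓ Subgroup.centralizer {v} ⊓ Subgroup.centralizer {w} ⊓ Subgroup.centralizer {u} : Subgroup X) := by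
  have h0 := c2 hX hE hE32 hv hw hvw
  have h1 := cent_sq (hE.mono ((inf_le_left.trans inf_le_left) : E ⊓ Subgroup.centralizer {v} ⊓ Subgroup.centralizer {w} ≤ E)) hu (by
    intro d hd
    obtain ⟨h1, h2⟩ := Subgroup.mem_inf.mp hd
    refine Subgroup.mem_inf.mpr ⟨norm_step hvu d h1, ?_⟩
    have hw' : u ∈ Subgroup.centralizer ({w} : Set X) := by
      rw [Subgroup.mem_centralizer_singleton_iff]; exact hwu.symm
    exact Subgroup.mul_mem _ (Subgroup.mul_mem _ hw' h2) (Subgroup.inv_mem _ hw'))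
  by_contra h2
  have h3 : Nat.card (E ⊓ Subgroup.centralizer {v} ⊓ Subgroup.centralizer {w} ⊓ Subgroup.centralizer {u} : Subgroup X) ≤ 1 := by omega
  have h4 := Nat.pow_le_pow_left h3 2
  omega

theorem exists_notMem {H K : Subgroup X} (h : Nat.card H < Nat.card K) : ∃ x ∈ K, x ∉ H := by
  by_contra hcon
  push Not at hcon
  have := Nat.card_le_card_of_injective _ (Subgroup.inclusion_injective (show K ≤ H from hcon))
  omega

/-- generators of an elementary abelian group of order 8, the first one prescribed -/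
theorem gens {A : Subgroup X} (hA : EA A) (h8 : Nat.card A = 8) {a : X} (ha : a ∈ A) (ha1 : a ≠ 1) :
    ∃ b ∈ A, ∃ c ∈ A, ∀ x, a * x = x * a → b * x = x * b → c * x = x * c → ∀ y ∈ A, y * x = x * y := by
  have e1 : Nat.card (Subgroup.zpowers a) = 2 := by
    rw [Nat.card_zpowers]
    exact orderOf_eq_prime (by rw [pow_two]; exact hA.2 a ha) ha1
  have hle1 : Subgroup.zpowers a ≤ A := by rw [Subgroup.zpowers_le]; exact ha
  obtain ⟨b, hb, hb1⟩ := exists_notMem (H := Subgroup.zpowers a) (K := A) (by rw [e1, h8]; norm_num)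
  have e2 := card_ext (hA.2 b hb) hb1 (fun v hv => hA.1 v (hle1 hv) b hb)
  rw [e1] at e2
  have hle2 : Subgroup.zpowers a ⊔ Subgroup.zpowers b ≤ A := sup_le hle1 (by rw [Subgroup.zpowers_le]; exact hb)
  obtain ⟨c, hc, hc1⟩ := exists_notMem (H := Subgroup.zpowers a ⊔ Subgroup.zpowers b) (K := A) (by rw [e2, h8]; norm_num)
  have e3 := card_ext (hA.2 c hc) hc1 (fun v hv => hA.1 v (hle2 hv) c hc)
  rw [e2] at e3
  have hle3 : Subgroup.zpowers a ⊔ Subgroup.zpowers b ⊔ Subgroup.zpowers c ≤ A := sup_le hle2 (by rw [Subgroup.zpowers_le]; exact hc)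
  have heq : Subgroup.zpowers a ⊔ Subgroup.zpowers b ⊔ Subgroup.zpowers c = A := by
    apply Subgroup.eq_of_le_of_card_ge hle3
    rw [e3, h8]
  refine ⟨b, hb, c, hc, ?_⟩
  intro x hxa hxb hxc y hy
  rw [← heq] at hy
  refine sup_le_cent ?_ hxc y hy
  refine sup_le_cent ?_ hxb
  intro v hv
  obtain ⟨m, rfl⟩ := Subgroup.mem_zpowers_iff.mp hv
  exact (show Commute a x from hxa).zpow_left m

theorem comm_bot {C D : Subgroup X} : ⁅C, D⁆ = ⊥ ↔ ∀ c ∈ C, ∀ d ∈ D, c * d = d * c := by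
  rw [Subgroup.commutator_eq_bot_iff_le_centralizer]
  constructor
  · intro h c hc d hd
    exact (Subgroup.mem_centralizer_iff.mp (h hc) d hd).symm
  · intro h c hc
    rw [Subgroup.mem_centralizer_iff]
    intro d hd
    exact (h c hc d hd).symm

def Rr (C D : Subgroup X) : Prop := EA C ∧ Nat.card C = 8 ∧ EA D ∧ Nat.card D = 8 ∧ ∀ c ∈ C, ∀ d ∈ D, c * d = d * c

theorem sub8 (hX : IsPGroup 2 X) {H : Subgroup X} (h : 8 ≤ Nat.card H) : ∃ K ≤ H, Nat.card K = 8 := by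
  obtain ⟨K, h1, h2⟩ := Sylow.exists_subgroup_le_card_pow_prime_of_le_card (n := 3) Nat.prime_two hX (H := H) (by norm_num; exact h)
  exact ⟨K, h1, by rw [h2]; norm_num⟩

/-- every E8 is connected to one inside E -/
theorem chain (hX : IsPGroup 2 X) {E : Subgroup X} [E.Normal] (hE : EA E) (hE32 : 32 ≤ Nat.card E) {A : Subgroup X}
    (hA : EA A) (h8 : Nat.card A = 8) : ∃ D ≤ E, Nat.card D = 8 ∧ Relation.ReflTransGen Rr A D := by
  have hA1 : ∃ a ∈ A, a ≠ 1 := by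
    obtain ⟨a, ha, h⟩ := exists_notMem (H := (⊥ : Subgroup X)) (K := A) (by rw [Subgroup.card_bot, h8]; norm_num)
    exact ⟨a, ha, fun h1 => h (Subgroup.mem_bot.mpr h1)⟩
  obtain ⟨a, ha, ha1⟩ := hA1
  obtain ⟨b, hb, c, hc, hgen⟩ := gens hA h8 ha ha1
  have h2 := c3 hX hE hE32 (hA.2 a ha) (hA.2 b hb) (hA.2 c hc) (hA.1 a ha b hb) (hA.1 a ha c hc) (hA.1 b hb c hc)
  -- step 1
  obtain ⟨e, heE, he1, heA⟩ : ∃ e ∈ E, e ≠ 1 ∧ ∀ y ∈ A, y * e = e * y := by
    obtain ⟨e, he, h⟩ := exists_notMem (H := (⊥ : Subgroup X)) (K := E ⊓ Subgroup.centralizer {a} ⊓ Subgroup.centralizer {b} ⊓ Subgroup.centralizer {c}) (by rw [Subgroup.card_bot]; omega)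
    obtain ⟨h3, h4⟩ := Subgroup.mem_inf.mp he
    obtain ⟨h5, h6⟩ := Subgroup.mem_inf.mp h3
    obtain ⟨h7, h9⟩ := Subgroup.mem_inf.mp h5
    rw [Subgroup.mem_centralizer_singleton_iff] at h4 h6 h9
    exact ⟨e, h7, fun h1 => h (Subgroup.mem_bot.mpr h1), hgen e h9.symm h6.symm h4.symm⟩
  obtain ⟨D1, hD1, hD18, heD1, hAD1⟩ : ∃ D1 : Subgroup X, EA D1 ∧ Nat.card D1 = 8 ∧ e ∈ D1 ∧ Rr A D1 := by
    by_cases heA' : e ∈ A
    · exact ⟨A, hA, h8, heA', hA, h8, hA, h8, hA.1⟩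
    · obtain ⟨V, hVA, hV⟩ := Sylow.exists_subgroup_le_card_pow_prime_of_le_card (n := 2) Nat.prime_two hX (H := A) (by rw [h8]; norm_num)
      have hee := hE.2 e heE
      have hVe : ∀ v ∈ V, v * e = e * v := fun v hv => heA v (hVA hv)
      have hDE := (hA.mono hVA).ext hee hVe
      have hc8 : Nat.card (V ⊔ Subgroup.zpowers e : Subgroup X) = 8 := by
        rw [card_ext hee (fun h => heA' (hVA h)) hVe, hV]; norm_num
      refine ⟨V ⊔ Subgroup.zpowers e, hDE, hc8, Subgroup.mem_sup_right (Subgroup.mem_zpowers e), hA, h8, hDE, hc8, ?_⟩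
      intro x hx d hd
      exact (sup_le_cent (fun v hv => hA.1 v (hVA hv) x hx) (heA x hx).symm d hd).symm
  -- step 2
  obtain ⟨v, hv, w, hw, hgen2⟩ := gens hD1 hD18 heD1 he1
  have h3 := c2 hX hE hE32 (hD1.2 v hv) (hD1.2 w hw) (hD1.1 v hv w hw)
  obtain ⟨C, hC⟩ : ∃ C, C = E ⊓ Subgroup.centralizer {v} ⊓ Subgroup.centralizer {w} := ⟨_, rfl⟩
  rw [← hC] at h3
  have hCE : C ≤ E := by rw [hC]; exact inf_le_left.trans inf_le_left
  have hCD : ∀ x ∈ C, ∀ y ∈ D1, y * x = x * y := by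
    intro x hx
    have hx' := hx
    rw [hC] at hx'
    obtain ⟨h5, h6⟩ := Subgroup.mem_inf.mp hx'
    obtain ⟨h7, h9⟩ := Subgroup.mem_inf.mp h5
    rw [Subgroup.mem_centralizer_singleton_iff] at h6 h9
    exact hgen2 x (hE.1 e heE x h7) h9.symm h6.symm
  by_cases hC8 : 8 ≤ Nat.card C
  · obtain ⟨D, hDC, hD8⟩ := sub8 hX hC8
    refine ⟨D, hDC.trans hCE, hD8, (Relation.ReflTransGen.single hAD1).tail ?_⟩
    exact ⟨hD1, hD18, hE.mono (hDC.trans hCE), hD8, fun y hy x hx => hCD x (hDC hx) y hy⟩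
  · have hC4 : Nat.card C = 4 := by
      obtain ⟨k, hk⟩ := two_pow hX (H := C)
      rw [hk] at hC8 h3 ⊢
      rcases Nat.lt_or_ge k 3 with h | h
      · have : k = 0 ∨ k = 1 ∨ k = 2 := by omega
        rcases this with rfl | rfl | rfl
        · norm_num at h3
        · norm_num at h3
        · norm_num
      · exfalso
        apply hC8
        exact (show 8 = 2 ^ 3 by norm_num) ▸ Nat.pow_le_pow_right (n := 2) (by norm_num) h
    obtain ⟨x, hxD, hxC⟩ := exists_notMem (H := C) (K := D1) (by rw [hC4, hD18]; norm_num)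
    have hxx := hD1.2 x hxD
    have hCx : ∀ y ∈ C, y * x = x * y := fun y hy => (hCD y hy x hxD).symm
    have hD2 := (hE.mono hCE).ext hxx hCx
    have hD28 : Nat.card (C ⊔ Subgroup.zpowers x : Subgroup X) = 8 := by
      rw [card_ext hxx hxC hCx, hC4]
    have hR2 : Rr D1 (C ⊔ Subgroup.zpowers x) := by
      refine ⟨hD1, hD18, hD2, hD28, ?_⟩
      intro y hy d hd
      exact (sup_le_cent (fun v hv => (hCD v hv y hy).symm) (hD1.1 x hxD y hy) d hd).symm
    obtain ⟨D, hDC, hD8⟩ := sub8 hX (c1 hX hE hE32 hxx)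
    have hDE : D ≤ E := hDC.trans inf_le_left
    refine ⟨D, hDE, hD8, ((Relation.ReflTransGen.single hAD1).tail hR2).tail ?_⟩
    refine ⟨hD2, hD28, hE.mono hDE, hD8, ?_⟩
    intro y hy d hd
    have hdx : d * x = x * d := by
      have := (Subgroup.mem_inf.mp (hDC hd)).2
      rwa [Subgroup.mem_centralizer_singleton_iff] at this
    exact sup_le_cent (fun v hv => hE.1 v (hCE hv) d (hDE hd)) hdx.symm y hy

theorem Rr.symm' {C D : Subgroup X} (h : Rr C D) : Rr D C :=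
  ⟨h.2.2.1, h.2.2.2.1, h.1, h.2.1, fun c hc d hd => (h.2.2.2.2 d hd c hc).symm⟩

theorem rtg_symm {C D : Subgroup X} (h : Relation.ReflTransGen Rr C D) : Relation.ReflTransGen Rr D C := by
  induction h with
  | refl => exact Relation.ReflTransGen.refl
  | tail _ h2 ih => exact Relation.ReflTransGen.head h2.symm' ih

theorem partA (hX : IsPGroup 2 X) {E : Subgroup X} [E.Normal] (hE : EA E) (hE32 : 32 ≤ Nat.card E) {A B : Subgroup X}
    (hA : EA A) (h8 : Nat.card A = 8) (hB : EA B) (hB8 : Nat.card B = 8) : Relation.ReflTransGen Rr A B := by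
  obtain ⟨D, hDE, hD8, h1⟩ := chain hX hE hE32 hA h8
  obtain ⟨D', hDE', hD8', h2⟩ := chain hX hE hE32 hB hB8
  have h3 : Rr D D' := ⟨hE.mono hDE, hD8, hE.mono hDE', hD8', fun c hc d hd => hE.1 c (hDE hc) d (hDE' hd)⟩
  exact (h1.tail h3).trans (rtg_symm h2)

theorem partB (hX : IsPGroup 2 X) {E : Subgroup X} [E.Normal] (hE : EA E) (hE32 : 32 ≤ Nat.card E) {V : Subgroup X}
    (hV : EA V) (h4 : Nat.card V = 4) : ∃ A : Subgroup X, V ≤ A ∧ EA A ∧ Nat.card A = 8 := by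
  obtain ⟨v, hv, hv1⟩ := exists_notMem (H := (⊥ : Subgroup X)) (K := V) (by rw [Subgroup.card_bot, h4]; norm_num)
  have hv1' : v ≠ 1 := fun h => hv1 (Subgroup.mem_bot.mpr h)
  have e1 : Nat.card (Subgroup.zpowers v) = 2 := by
    rw [Nat.card_zpowers]
    exact orderOf_eq_prime (by rw [pow_two]; exact hV.2 v hv) hv1'
  have hle1 : Subgroup.zpowers v ≤ V := by rw [Subgroup.zpowers_le]; exact hv
  obtain ⟨w, hw, hw1⟩ := exists_notMem (H := Subgroup.zpowers v) (K := V) (by rw [e1, h4]; norm_num)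
  have e2 := card_ext (hV.2 w hw) hw1 (fun y hy => hV.1 y (hle1 hy) w hw)
  rw [e1] at e2
  have hle2 : Subgroup.zpowers v ⊔ Subgroup.zpowers w ≤ V := sup_le hle1 (by rw [Subgroup.zpowers_le]; exact hw)
  have heq : Subgroup.zpowers v ⊔ Subgroup.zpowers w = V := Subgroup.eq_of_le_of_card_ge hle2 (by rw [e2, h4])
  have hgen : ∀ x, v * x = x * v → w * x = x * w → ∀ y ∈ V, y * x = x * y := by
    intro x hxv hxw y hy
    rw [← heq] at hy
    refine sup_le_cent ?_ hxw y hy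
    intro u hu
    obtain ⟨m, rfl⟩ := Subgroup.mem_zpowers_iff.mp hu
    exact (show Commute v x from hxv).zpow_left m
  have h3 := c2 hX hE hE32 (hV.2 v hv) (hV.2 w hw) (hV.1 v hv w hw)
  obtain ⟨C, hC⟩ : ∃ C, C = E ⊓ Subgroup.centralizer {v} ⊓ Subgroup.centralizer {w} := ⟨_, rfl⟩
  rw [← hC] at h3
  have hCE : C ≤ E := by rw [hC]; exact inf_le_left.trans inf_le_left
  have hCV : ∀ x ∈ C, ∀ y ∈ V, y * x = x * y := by
    intro x hx
    have hx' := hx
    rw [hC] at hx'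
    obtain ⟨h5, h6⟩ := Subgroup.mem_inf.mp hx'
    obtain ⟨h7, h9⟩ := Subgroup.mem_inf.mp h5
    rw [Subgroup.mem_centralizer_singleton_iff] at h6 h9
    exact hgen x h9.symm h6.symm
  obtain ⟨e, heC, heV⟩ : ∃ e ∈ C, e ∉ V := by
    by_contra hcon
    push Not at hcon
    have hCV' : C = V := Subgroup.eq_of_le_of_card_ge hcon (by rw [h4]; exact h3)
    have hEC : E ≤ C := by
      intro x hx
      have hvE : v ∈ E := hCE (hCV' ▸ hv)
      have hwE : w ∈ E := hCE (hCV' ▸ hw)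
      rw [hC]
      refine Subgroup.mem_inf.mpr ⟨Subgroup.mem_inf.mpr ⟨hx, ?_⟩, ?_⟩
      · rw [Subgroup.mem_centralizer_singleton_iff]; exact hE.1 x hx v hvE
      · rw [Subgroup.mem_centralizer_singleton_iff]; exact hE.1 x hx w hwE
    have := Nat.card_le_card_of_injective _ (Subgroup.inclusion_injective hEC)
    rw [hCV', h4] at this
    omega
  have hee := hE.2 e (hCE heC)
  have hVe : ∀ y ∈ V, y * e = e * y := hCV e heC
  exact ⟨V ⊔ Subgroup.zpowers e, le_sup_left, hV.ext hee hVe, by rw [card_ext hee heV hVe, h4]⟩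

end Cfsg.Agent.L0.E8
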