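import Cfsg.Agent.S0666
import Cfsg.Agent.S0039

set_option autoImplicit false
open Cfsg

namespace Cfsg.Agent.L0.ThreePr

theorem exists_pow_prime {G : Type*} [Group G] {a : G} {p i : ℕ} (hp : p.Prime) (ha : orderOf a = p ^ i) (h1 : a ≠ 1) :
    ∃ k : ℕ, orderOf (a ^ k) = p := by
  have hi : i ≠ 0 := by
    rintro rfl
    rw [pow_zero] at ha
    exact h1 (orderOf_eq_one_iff.mp ha)
  obtain ⟨j, rfl⟩ := Nat.exists_eq_succ_of_ne_zero hi
  refine ⟨p ^ j, ?_⟩
  rw [orderOf_pow_of_dvd (pow_ne_zero _ hp.ne_zero) (by rw [ha]; exact pow_dvd_pow p (Nat.le_succ j)), ha,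
    Nat.pow_div (Nat.le_succ j) hp.pos]
  simp

theorem adj {G : Type*} [Group G] {a b : G} {p q i j : ℕ} (hp : p.Prime) (hq : q.Prime) (hpq : p ≠ q)
    (ha : orderOf a = p ^ i) (hb : orderOf b = q ^ j) (ha1 : a ≠ 1) (hb1 : b ≠ 1) (hab : a * b = b * a) :
    ∃ x : G, orderOf x = p * q := by
  obtain ⟨k, hk⟩ := exists_pow_prime hp ha ha1
  obtain ⟨l, hl⟩ := exists_pow_prime hq hb hb1
  refine ⟨a ^ k * b ^ l, ?_⟩
  have hc : Commute (a ^ k) (b ^ l) := (show Commute a b from hab).pow_pow k l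
  rw [hc.orderOf_mul_eq_mul_orderOf_of_coprime (by rw [hk, hl]; exact (Nat.coprime_primes hp hq).mpr hpq), hk, hl]

theorem order_pow {G : Type*} [Group G] {p : ℕ} [Fact p.Prime] {P : Subgroup G} (hP : IsPGroup p P) {a : G} (ha : a ∈ P) :
    ∃ i, orderOf a = p ^ i := by
  obtain ⟨k, hk⟩ := IsPGroup.iff_orderOf.1 hP ⟨a, ha⟩
  rw [Subgroup.orderOf_mk] at hk
  exact ⟨k, hk⟩

theorem core {G : Type*} [Group G] [Finite G] {p q r : ℕ} (hp : p.Prime) (hq : q.Prime) (hr : r.Prime)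
    (hpq : p ≠ q) (hpr : p ≠ r) (hqr : q ≠ r) {P Q : Subgroup G} (hPn : P.Normal) (hP : IsPGroup p P) (hQ : IsPGroup q Q)
    (hP1 : P ≠ ⊥) (hQ1 : Q ≠ ⊥) {x : G} (hx : x ∈ Subgroup.normalizer (Q : Set G)) (hxr : orderOf x = r) :
    (∃ x : G, orderOf x = p * q) ∨ (∃ x : G, orderOf x = p * r) ∨ (∃ x : G, orderOf x = q * r) := by
  classical
  haveI := Fact.mk hp
  haveI := Fact.mk hq
  haveI := Fact.mk hr
  by_contra hcon
  push Not at hcon
  obtain ⟨n1, n2, n3⟩ := hcon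
  have hx1 : x ≠ 1 := by
    rintro rfl
    rw [orderOf_one] at hxr
    exact hr.one_lt.ne hxr
  obtain ⟨V, hV⟩ : ∃ V : Subgroup G, V = P ⊓ Subgroup.centralizer (P : Set G) := ⟨_, rfl⟩
  have hVP : ∀ v ∈ V, v ∈ P := fun v hv => by rw [hV] at hv; exact (Subgroup.mem_inf.mp hv).1
  have hVn : V.Normal := by rw [hV]; infer_instance
  have hVc : IsMulCommutative V := by
    constructor; constructor
    rintro ⟨a, ha⟩ ⟨b, hb⟩
    apply Subtype.ext
    change a * b = b * a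
    rw [hV] at hb
    exact Subgroup.mem_centralizer_iff.mp (Subgroup.mem_inf.mp hb).2 a (hVP a ha)
  have hVp : IsPGroup p V := hP.to_le (fun v hv => hVP v hv)
  have hV1 : V ≠ ⊥ := by
    haveI : Nontrivial ↥P := (Subgroup.nontrivial_iff_ne_bot P).2 hP1
    haveI := hP.center_nontrivial
    obtain ⟨⟨z, hz⟩, hz1⟩ := exists_ne (1 : Subgroup.center ↥P)
    intro hbot
    apply hz1
    apply Subtype.ext
    apply Subtype.ext
    have : (z : G) ∈ V := by
      rw [hV]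
      refine Subgroup.mem_inf.mpr ⟨z.2, ?_⟩
      rw [Subgroup.mem_centralizer_iff]
      intro y hy
      exact congrArg Subtype.val (Subgroup.mem_center_iff.mp hz ⟨y, hy⟩)
    rw [hbot, Subgroup.mem_bot] at this
    exact this
  obtain ⟨F, hF⟩ : ∃ F : Subgroup G, F = Q ⊔ Subgroup.zpowers x := ⟨_, rfl⟩
  have hQF : Q ≤ F := by rw [hF]; exact le_sup_left
  have hxF : Subgroup.zpowers x ≤ F := by rw [hF]; exact le_sup_right
  have hFN : F ≤ Subgroup.normalizer (Q : Set G) := by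
    rw [hF]
    refine sup_le Subgroup.le_normalizer ?_
    rw [Subgroup.zpowers_le]; exact hx
  obtain ⟨K, hK⟩ : ∃ K : Subgroup F, K = Q.subgroupOf F := ⟨_, rfl⟩
  obtain ⟨H, hH⟩ : ∃ H : Subgroup F, H = (Subgroup.zpowers x).subgroupOf F := ⟨_, rfl⟩
  haveI hKn : K.Normal := by rw [hK]; exact (Subgroup.normal_subgroupOf_iff_le_normalizer hQF).2 hFN
  have hxo : ∀ y ∈ Subgroup.zpowers x, y = 1 ∨ orderOf y = r ^ 1 := by
    intro y hy
    have h1 := Subgroup.orderOf_dvd_natCard _ hy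
    rw [Nat.card_zpowers, hxr] at h1
    rcases (Nat.dvd_prime hr).mp h1 with h2 | h2
    · left; exact orderOf_eq_one_iff.mp h2
    · right; rw [h2, pow_one]
  have hdisj0 : ∀ y, y ∈ Q → y ∈ Subgroup.zpowers x → y = 1 := by
    intro y hy1 hy2
    rcases hxo y hy2 with h1 | h1
    · exact h1
    · obtain ⟨i, hi⟩ := order_pow hQ hy1
      rw [hi, pow_one] at h1
      exfalso
      have hi0 : i ≠ 0 := by rintro rfl; rw [pow_zero] at h1; exact hr.one_lt.ne h1
      have : q ∣ r := by rw [← h1]; exact dvd_pow_self q hi0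
      exact hqr ((Nat.prime_dvd_prime_iff_eq hq hr).mp this)
  have hdisj : Disjoint K H := by
    rw [Subgroup.disjoint_def]
    intro y hy1 hy2
    rw [hK, Subgroup.mem_subgroupOf] at hy1
    rw [hH, Subgroup.mem_subgroupOf] at hy2
    exact Subtype.ext (hdisj0 _ hy1 hy2)
  have hcompl : Subgroup.IsComplement' K H := by
    apply Subgroup.isComplement'_of_disjoint_and_mul_eq_univ hdisj
    rw [← Subgroup.normal_mul]
    have : K ⊔ H = ⊤ := by
      rw [hK, hH, ← Subgroup.subgroupOf_sup hQF hxF, ← hF, Subgroup.subgroupOf_self]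
    rw [this, Subgroup.coe_top]
  have hK1 : K ≠ ⊥ := by
    intro h
    apply hQ1
    rw [Subgroup.eq_bot_iff_forall]
    intro y hy
    have : (⟨y, hQF hy⟩ : F) ∈ K := by rw [hK, Subgroup.mem_subgroupOf]; exact hy
    rw [h, Subgroup.mem_bot] at this
    exact congrArg Subtype.val this
  have hH1 : H ≠ ⊥ := by
    intro h
    apply hx1
    have : (⟨x, hxF (Subgroup.mem_zpowers x)⟩ : F) ∈ H := by rw [hH, Subgroup.mem_subgroupOf]; exact Subgroup.mem_zpowers x
    rw [h, Subgroup.mem_bot] at this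
    exact congrArg Subtype.val this
  have hfrob : IsFrobeniusComplement H := by
    rw [Cfsg.Agent.S0039.result K H hcompl hK1 hH1]
    intro h hh hh1
    rw [Subgroup.eq_bot_iff_forall]
    intro k hk
    obtain ⟨hk1, hk2⟩ := Subgroup.mem_inf.mp hk
    rw [Subgroup.mem_centralizer_singleton_iff] at hk2
    by_contra hkne
    rw [hK, Subgroup.mem_subgroupOf] at hk1
    rw [hH, Subgroup.mem_subgroupOf] at hh
    obtain ⟨i, hi⟩ := order_pow hQ hk1
    have hh2 : (h : G) ≠ 1 := fun h3 => hh1 (Subtype.ext h3)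
    have hk3 : (k : G) ≠ 1 := fun h3 => hkne (Subtype.ext h3)
    obtain ⟨y, hy⟩ := adj hq hr hqr hi ((hxo _ hh).resolve_left hh2) hk3 hh2 (congrArg Subtype.val hk2)
    exact n3 y hy
  have hker : (K : Set F) ⊆ frobeniusKernel H := by
    intro k hk
    by_cases hk1 : k = 1
    · left; exact hk1
    · right
      intro g hg
      rw [Subgroup.mem_pointwise_smul_iff_inv_smul_mem] at hg
      have h1 : (MulAut.conj g)⁻¹ • k ∈ K := by
        rw [← map_inv]
        change g⁻¹ * k * g⁻¹⁻¹ ∈ K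
        exact hKn.conj_mem k hk g⁻¹
      have h2 := Subgroup.disjoint_def.mp hdisj h1 hg
      apply hk1
      rw [← map_inv] at h2
      change g⁻¹ * k * g⁻¹⁻¹ = 1 at h2
      have : k = g * (g⁻¹ * k * g⁻¹⁻¹) * g⁻¹ := by group
      rw [this, h2]; group
  have hcard : Nat.card (frobeniusKernel H) = Nat.card Q := by
    rw [Cfsg.Agent.H3.card_frobeniusKernel H hfrob, hcompl.index_eq_card, hK]
    exact Nat.card_congr (Subgroup.subgroupOfEquivOfLe hQF).toEquiv
  have hfin := Cfsg.Agent.S0666.result V F hVc hV1 (by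
      rw [Subgroup.normalizer_eq_top V]; exact le_top) H hfrob (by
      rw [hcard]
      obtain ⟨a, ha⟩ := IsPGroup.iff_card.mp hVp
      obtain ⟨b, hb⟩ := IsPGroup.iff_card.mp hQ
      rw [ha, hb]
      exact Nat.Coprime.pow _ _ ((Nat.coprime_primes hp hq).mpr hpq)) (by
      rw [Subgroup.eq_bot_iff_forall]
      intro v hv
      obtain ⟨hv1, hv2⟩ := Subgroup.mem_inf.mp hv
      by_contra hv3
      obtain ⟨y, hy1, hy2⟩ : ∃ y ∈ Q, y ≠ 1 := by
        by_contra h5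
        push Not at h5
        exact hQ1 ((Subgroup.eq_bot_iff_forall Q).mpr h5)
      have hyF : (⟨y, hQF hy1⟩ : F) ∈ frobeniusKernel H := hker (by
        change (⟨y, hQF hy1⟩ : F) ∈ K
        rw [hK, Subgroup.mem_subgroupOf]; exact hy1)
      have h6 := Subgroup.mem_centralizer_iff.mp hv2 y ⟨_, hyF, rfl⟩
      obtain ⟨i, hi⟩ := order_pow hVp hv1
      obtain ⟨j, hj⟩ := order_pow hQ hy1
      obtain ⟨w, hw⟩ := adj hp hq hpq hi hj hv3 hy2 h6.symm
      exact n1 w hw)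
  apply hfin
  rw [Subgroup.eq_bot_iff_forall]
  intro v hv
  obtain ⟨hv1, hv2⟩ := Subgroup.mem_inf.mp hv
  by_contra hv3
  have h6 := Subgroup.mem_centralizer_iff.mp hv2 x ⟨⟨x, hxF (Subgroup.mem_zpowers x)⟩, (by
    rw [hH]
    change (⟨x, hxF (Subgroup.mem_zpowers x)⟩ : F) ∈ (Subgroup.zpowers x).subgroupOf F
    rw [Subgroup.mem_subgroupOf]; exact Subgroup.mem_zpowers x), rfl⟩
  obtain ⟨i, hi⟩ := order_pow hVp hv1
  obtain ⟨w, hw⟩ := adj hp hr hpr hi (show orderOf x = r ^ 1 by rw [hxr, pow_one]) hv3 hx1 h6.symm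
  exact n2 w hw

theorem sylow_ne_bot {X : Type*} [Group X] [Finite X] {q : ℕ} [Fact q.Prime] (h : q ∣ Nat.card X) (Q : Sylow q X) :
    (Q : Subgroup X) ≠ ⊥ := by
  intro hb
  have h1 := Q.dvd_card_of_dvd_card h
  rw [hb, Subgroup.card_bot] at h1
  exact (Fact.out : q.Prime).one_lt.ne' (Nat.dvd_one.mp h1)

theorem map_ne_bot {X : Type*} [Group X] {M : Subgroup X} {Q : Subgroup M} (hQ : Q ≠ ⊥) : Q.map M.subtype ≠ ⊥ := by
  intro h
  apply hQ
  rwa [Subgroup.map_eq_bot_iff_of_injective _ (Subgroup.subtype_injective M)] at h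

theorem stepB {G : Type*} [Group G] [Finite G] {p q r : ℕ} (hp : p.Prime) (hq : q.Prime) (hr : r.Prime)
    (hpq : p ≠ q) (hpr : p ≠ r) (hqr : q ≠ r) {P M : Subgroup G} (hPn : P.Normal) (hP : IsPGroup p P)
    (hP1 : P ≠ ⊥) (hMn : M.Normal) (hqM : q ∣ Nat.card M) (hrM : r ∣ M.index) :
    (∃ x : G, orderOf x = p * q) ∨ (∃ x : G, orderOf x = p * r) ∨ (∃ x : G, orderOf x = q * r) := by
  haveI := Fact.mk hp
  haveI := Fact.mk hq
  haveI := Fact.mk hr
  obtain ⟨Q⟩ : Nonempty (Sylow q M) := inferInstance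
  have h1 := Sylow.normalizer_sup_eq_top Q
  have h2 : r ∣ Nat.card (Subgroup.normalizer (((Q : Subgroup M).map M.subtype : Subgroup G) : Set G)) := by
    have h3 := Subgroup.relIndex_sup_right (Subgroup.normalizer (((Q : Subgroup M).map M.subtype : Subgroup G) : Set G)) M
    rw [h1, Subgroup.relIndex_top_right] at h3
    rw [h3] at hrM
    exact hrM.trans (Subgroup.relIndex_dvd_card _ _)
  obtain ⟨⟨x, hx⟩, hxr⟩ := exists_prime_orderOf_dvd_card' r h2
  rw [Subgroup.orderOf_mk] at hxr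
  exact core hp hq hr hpq hpr hqr hPn hP (Q.isPGroup'.map M.subtype) hP1 (map_ne_bot (sylow_ne_bot hqM Q)) hx hxr

theorem main {G : Type*} [Group G] [Finite G] (K M : Subgroup G) [K.Normal] [M.Normal] (hKM : K ≤ M)
    (p q r : ℕ) (hp : p.Prime) (hq : q.Prime) (hr : r.Prime) (hpq : p ≠ q) (hpr : p ≠ r) (hqr : q ≠ r)
    (hpK : p ∣ Nat.card ↥K) (hqM : q ∣ K.relIndex M) (hrG : r ∣ M.index) :
    (∃ x : G, orderOf x = p * q) ∨ (∃ x : G, orderOf x = p * r) ∨ (∃ x : G, orderOf x = q * r) := by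
  haveI := Fact.mk hp
  obtain ⟨P⟩ : Nonempty (Sylow p K) := inferInstance
  obtain ⟨P0, hP0⟩ : ∃ P0 : Subgroup G, P0 = (P : Subgroup K).map K.subtype := ⟨_, rfl⟩
  have hP0p : IsPGroup p P0 := by rw [hP0]; exact P.isPGroup'.map K.subtype
  have hP01 : P0 ≠ ⊥ := by rw [hP0]; exact map_ne_bot (sylow_ne_bot hpK P)
  obtain ⟨N, hN⟩ : ∃ N : Subgroup G, N = Subgroup.normalizer (P0 : Set G) := ⟨_, rfl⟩
  have h1 : N ⊔ K = ⊤ := by rw [hN, hP0]; exact Sylow.normalizer_sup_eq_top P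
  have hPN : P0 ≤ N := by rw [hN]; exact Subgroup.le_normalizer
  have h2 : N ⊔ M = ⊤ := eq_top_iff.mpr (by rw [← h1]; exact sup_le_sup_left hKM N)
  have h3 : (N ⊓ M) ⊔ K = M := by
    apply le_antisymm (sup_le inf_le_right hKM)
    intro m hm
    have hm2 : m ∈ N ⊔ K := by rw [h1]; exact Subgroup.mem_top m
    obtain ⟨n, hn, k, hk, rfl⟩ := Subgroup.mem_sup_of_normal_right.mp hm2
    have hnM : n ∈ M := by
      have := M.mul_mem hm (M.inv_mem (hKM hk))
      rwa [mul_inv_cancel_right] at this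
    exact Subgroup.mul_mem _ (Subgroup.mem_sup_left (Subgroup.mem_inf.mpr ⟨hn, hnM⟩)) (Subgroup.mem_sup_right hk)
  have h4 : q ∣ Nat.card (M.subgroupOf N) := by
    have h5 := Subgroup.relIndex_sup_right (N ⊓ M) K
    rw [h3] at h5
    rw [h5] at hqM
    have h6 : Nat.card (N ⊓ M : Subgroup G) = Nat.card (M.subgroupOf N) := by
      rw [← Subgroup.inf_subgroupOf_left]
      exact (Nat.card_congr (Subgroup.subgroupOfEquivOfLe inf_le_left).toEquiv).symm
    rw [← h6]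
    exact hqM.trans (Subgroup.relIndex_dvd_card _ _)
  have h5 : r ∣ (M.subgroupOf N).index := by
    have h6 := Subgroup.relIndex_sup_right N M
    rw [h2, Subgroup.relIndex_top_right] at h6
    rw [h6] at hrG
    exact hrG
  have hPNn : (P0.subgroupOf N).Normal := (Subgroup.normal_subgroupOf_iff_le_normalizer hPN).2 (by rw [hN])
  have hP2 : P0.subgroupOf N ≠ ⊥ := by
    intro h
    apply hP01
    rw [Subgroup.eq_bot_iff_forall]
    intro y hy
    have : (⟨y, hPN hy⟩ : N) ∈ P0.subgroupOf N := by rw [Subgroup.mem_subgroupOf]; exact hy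
    rw [h, Subgroup.mem_bot] at this
    exact congrArg Subtype.val this
  have h7 := stepB hp hq hr hpq hpr hqr hPNn (hP0p.comap_of_injective N.subtype (Subgroup.subtype_injective N)) hP2
    (inferInstance : (M.subgroupOf N).Normal) h4 h5
  rcases h7 with ⟨x, hx⟩ | ⟨x, hx⟩ | ⟨x, hx⟩
  · exact Or.inl ⟨x, by rw [Subgroup.orderOf_coe, hx]⟩
  · exact Or.inr (Or.inl ⟨x, by rw [Subgroup.orderOf_coe, hx]⟩)
  · exact Or.inr (Or.inr ⟨x, by rw [Subgroup.orderOf_coe, hx]⟩)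

end Cfsg.Agent.L0.ThreePr
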