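import Cfsg.Agent.H6.CharP
import Cfsg.Agent.L0.Core

set_option autoImplicit false
open Cfsg

namespace Cfsg.Agent.L0.Tv

open Matrix

variable {F : Type*} [Field F] {n : ℕ}

theorem tv_mulVec (i k : Fin n) (v : Fin n → F) : (Matrix.transvection i k (1 : F)) *ᵥ v = v + v k • (Pi.single i 1 : Fin n → F) := by
  rw [Matrix.transvection, Matrix.add_mulVec, Matrix.one_mulVec]
  congr 1
  ext a
  rw [Matrix.single_mulVec]
  by_cases h : a = i
  · subst h; simp
  · simp [h]

theorem sl_ext {g h : Matrix.SpecialLinearGroup (Fin n) F} (hgh : ∀ v, (g : Matrix (Fin n) (Fin n) F) *ᵥ v = (h : Matrix (Fin n) (Fin n) F) *ᵥ v) : g = h := by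
  apply Subtype.ext
  apply Matrix.mulVec_injective
  funext v
  exact hgh v

end Cfsg.Agent.L0.Tv
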